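import Groth.Agent.Lib.CohFound.MV
import Groth.Prelude.Def_LocCohZ
import Mathlib.Algebra.Homology.ShortComplex.SnakeLemma

/-!
The short exact sequence `ℤ_Z∪Z' ⟶ ℤ_Z ⊕ ℤ_Z' ⟶ ℤ_Z∩Z'` of sheaves attached to two closed subsets.
-/

set_option autoImplicit false

universe u

open CategoryTheory CategoryTheory.Limits TopologicalSpace Opposite

namespace Groth.Agent.LocCohMV8

attribute [local instance] HasBinaryBiproducts.of_hasBinaryProducts

variable {X : TopCat.{u}} (U V : Opens X)

local notation "J" => Opens.grothendieckTopology X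

/-- The split sequence `ℤ ⟶ ℤ ⊕ ℤ ⟶ ℤ`. -/
noncomputable abbrev topSC : ShortComplex (CohTop.Ab X) :=
  ShortComplex.mk
    (biprod.lift (𝟙 (CohCx.freeSheaf J (⊤ : Opens X))) (-𝟙 _))
    (biprod.desc (𝟙 _) (𝟙 (CohCx.freeSheaf J (⊤ : Opens X)))) (by
      rw [biprod.lift_desc, Category.comp_id, Category.comp_id, add_neg_cancel])

theorem topSC_shortExact : (topSC (X := X)).ShortExact :=
  (ShortComplex.Splitting.mk (S := topSC (X := X)) biprod.fst biprod.inr
    (by simp) (by simp) (by
      apply biprod.hom_ext' <;> apply biprod.hom_ext <;> simp)).shortExact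

/-- The sequence of the sheaves `ℤ_X/ℤ_U`. -/
noncomputable abbrev zqMV : ShortComplex (CohTop.Ab X) :=
  ShortComplex.mk
    (biprod.lift
      (LocCohZ.zqMap (le_top : U ≤ ⊤) (le_top : U ⊓ V ≤ ⊤) inf_le_left le_rfl)
      (-LocCohZ.zqMap (le_top : V ≤ ⊤) (le_top : U ⊓ V ≤ ⊤) inf_le_right le_rfl))
    (biprod.desc
      (LocCohZ.zqMap (le_top : U ⊔ V ≤ ⊤) (le_top : U ≤ ⊤) le_sup_left le_rfl)
      (LocCohZ.zqMap (le_top : U ⊔ V ≤ ⊤) (le_top : V ≤ ⊤) le_sup_right le_rfl)) (by
    apply (cancel_epi (cokernel.π _)).1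
    simp [LocCohZ.zqMap, Preadditive.neg_comp, ← CohFree.freeSheafMap_comp])

theorem freeFunctor_map {A B : Opens X} (h : A ≤ B) :
    (CohFound.freeFunctor X).map (homOfLE h) = CohCx.freeSheafMap J (homOfLE h) := rfl

theorem comp_free {A B C : Opens X} (h : A ≤ B) (h' : B ≤ C) :
    CohCx.freeSheafMap J (homOfLE h) ≫ CohCx.freeSheafMap J (homOfLE h') =
      CohCx.freeSheafMap J (homOfLE (h.trans h')) := by
  rw [← CohFree.freeSheafMap_comp]
  rfl

/-- The inclusion of the Mayer–Vietoris sequence into the split sequence. -/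
noncomputable def incl : CohFound.mvSC U V ⟶ topSC (X := X) where
  τ₁ := CohCx.freeSheafMap J (homOfLE (le_top : U ⊓ V ≤ ⊤))
  τ₂ := biprod.map (CohCx.freeSheafMap J (homOfLE (le_top : U ≤ ⊤)))
    (CohCx.freeSheafMap J (homOfLE (le_top : V ≤ ⊤)))
  τ₃ := CohCx.freeSheafMap J (homOfLE (le_top : U ⊔ V ≤ ⊤))
  comm₁₂ := by
    apply biprod.hom_ext <;>
      simp [Preadditive.neg_comp, freeFunctor_map, comp_free]
  comm₂₃ := by
    apply biprod.hom_ext' <;>
      simp [freeFunctor_map, comp_free]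

/-- The projection to the sequence of the quotients. -/
noncomputable def proj : topSC (X := X) ⟶ zqMV U V where
  τ₁ := cokernel.π _
  τ₂ := biprod.map (cokernel.π _) (cokernel.π _)
  τ₃ := cokernel.π _
  comm₁₂ := by
    apply biprod.hom_ext <;>
      simp [LocCohZ.zqMap, show CohCx.freeSheafMap J (𝟙 (⊤ : Opens X)) = 𝟙 _ from CategoryTheory.Functor.map_id (CohFound.freeFunctor X) _]
  comm₂₃ := by
    apply biprod.hom_ext' <;>
      simp [LocCohZ.zqMap, show CohCx.freeSheafMap J (𝟙 (⊤ : Opens X)) = 𝟙 _ from CategoryTheory.Functor.map_id (CohFound.freeFunctor X) _]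

theorem incl_proj : incl U V ≫ proj U V = 0 := by
  apply ShortComplex.hom_ext
  · exact cokernel.condition _
  · apply biprod.hom_ext' <;> apply biprod.hom_ext <;>
      simp [incl, proj, cokernel.condition]
  · exact cokernel.condition _

/-- The cokernel cofork of a biproduct of maps. -/
noncomputable def isColimitBiprod {C : Type*} [Category C] [Preadditive C] [HasBinaryBiproducts C]
    {A A' B B' : C} (f : A ⟶ A') (g : B ⟶ B') [HasCokernel f] [HasCokernel g]
    (w : biprod.map f g ≫ biprod.map (cokernel.π f) (cokernel.π g) = 0) :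
    IsColimit (CokernelCofork.ofπ (biprod.map (cokernel.π f) (cokernel.π g)) w) :=
  haveI : Epi (biprod.map (cokernel.π f) (cokernel.π g)) := ⟨fun a b h => by
    apply biprod.hom_ext'
    · apply (cancel_epi (cokernel.π f)).1
      simpa using biprod.inl ≫= h
    · apply (cancel_epi (cokernel.π g)).1
      simpa using biprod.inr ≫= h⟩
  CokernelCofork.IsColimit.ofπ' _ w fun {Z} k hk =>
    ⟨biprod.desc (cokernel.desc f (biprod.inl ≫ k) (by simpa using biprod.inl ≫= hk))
      (cokernel.desc g (biprod.inr ≫ k) (by simpa using biprod.inr ≫= hk)), by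
      apply biprod.hom_ext' <;> simp⟩

theorem mono_incl : Mono (incl U V) := by
  haveI : ∀ {A B : Opens X} (h : A ≤ B), Mono (CohCx.freeSheafMap J (homOfLE h)) := fun h => by infer_instance
  haveI : Mono (incl U V).τ₂ := ⟨fun a b h => by
    apply biprod.hom_ext
    · apply (cancel_mono (CohCx.freeSheafMap J (homOfLE (le_top : U ≤ ⊤)))).1
      simpa [incl] using h =≫ biprod.fst
    · apply (cancel_mono (CohCx.freeSheafMap J (homOfLE (le_top : V ≤ ⊤)))).1
      simpa [incl] using h =≫ biprod.snd⟩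
  haveI : Mono (incl U V).τ₁ := by dsimp [incl]; infer_instance
  haveI : Mono (incl U V).τ₃ := by dsimp [incl]; infer_instance
  exact ⟨fun a b h => ShortComplex.hom_ext _ _
    ((cancel_mono (incl U V).τ₁).1 (congrArg ShortComplex.Hom.τ₁ h))
    ((cancel_mono (incl U V).τ₂).1 (congrArg ShortComplex.Hom.τ₂ h))
    ((cancel_mono (incl U V).τ₃).1 (congrArg ShortComplex.Hom.τ₃ h))⟩

/-- The snake. -/
@[reducible] noncomputable def snake : ShortComplex.SnakeInput (CohTop.Ab X) where
  L₀ := kernel (incl U V)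
  L₁ := CohFound.mvSC U V
  L₂ := topSC
  L₃ := zqMV U V
  v₀₁ := kernel.ι _
  v₁₂ := incl U V
  v₂₃ := proj U V
  w₀₂ := kernel.condition _
  w₁₃ := incl_proj U V
  h₀ := kernelIsKernel _
  h₃ := ShortComplex.isColimitOfIsColimitπ _
    ((CokernelCofork.isColimitMapCoconeEquiv _ _).symm (cokernelIsCokernel _))
    ((CokernelCofork.isColimitMapCoconeEquiv _ _).symm (isColimitBiprod _ _ (congrArg ShortComplex.Hom.τ₂ (incl_proj U V))))
    ((CokernelCofork.isColimitMapCoconeEquiv _ _).symm (cokernelIsCokernel _))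
  L₁_exact := (CohFound.mvSC_shortExact U V).exact
  epi_L₁_g := (CohFound.mvSC_shortExact U V).epi_g
  L₂_exact := (topSC_shortExact (X := X)).exact
  mono_L₂_f := (topSC_shortExact (X := X)).mono_f

theorem zqMV_shortExact : (zqMV U V).ShortExact where
  exact := (snake U V).L₃_exact
  mono_f := by
    have hz : IsZero (snake U V).L₀.X₃ := by
      haveI := mono_incl U V
      exact (ShortComplex.π₃).map_isZero (isZero_kernel_of_mono (incl U V))
    exact (snake U V).L₂'_exact.mono_g (hz.eq_of_src _ _)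
  epi_g := by
    have e := (proj U V).comm₂₃
    haveI := (topSC_shortExact (X := X)).epi_g
    haveI : Epi (proj U V).τ₃ := by dsimp [proj]; infer_instance
    exact epi_of_epi_fac e

end Groth.Agent.LocCohMV8
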